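import Groth.Agent.ConormalTriv.PrincPart
import Groth.Agent.S15544
import Groth.Prelude.Def_Curv2

/-!
# Principal parts on modifications of two-dimensional regular local rings
-/

set_option autoImplicit false
set_option linter.style.haveILetI false
set_option backward.isDefEq.respectTransparency false
set_option backward.isDefEq.respectTransparency.types false
set_option maxHeartbeats 1000000

universe u

open CategoryTheory Limits AlgebraicGeometry Opposite TopologicalSpace

noncomputable section

namespace Groth.Agent.ConormalTriv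

variable {A : Type u} [CommRing A] {X : Scheme.{u}} (f : X ⟶ Spec (CommRingCat.of A))

/-- An element of the base as a function upstairs. -/
def glob (a : A) : Γ(X, ⊤) := f.appTop ((Scheme.ΓSpecIso (CommRingCat.of A)).inv a)

theorem mem_basicOpen_glob (a : A) (x : X) :
    x ∈ X.basicOpen (glob f a) ↔ a ∉ (f x : PrimeSpectrum A).asIdeal := by
  change x ∈ X.basicOpen (f.appTop ((Scheme.ΓSpecIso (CommRingCat.of A)).inv a)) ↔ _
  rw [← Scheme.preimage_basicOpen_top]
  exact Iff.of_eq (congrArg (fun O => (f x : PrimeSpectrum A) ∈ O) (basicOpen_eq_of_affine (R := CommRingCat.of A) a))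

variable [IsIntegral X]

instance nonempty_top : Nonempty (⊤ : X.Opens) := ⟨⟨genericPoint X, trivial⟩⟩

/-- An element of the base as a rational function. -/
def φK : A →+* X.functionField :=
  (X.germToFunctionField ⊤).hom.comp ((Scheme.ΓSpecIso (CommRingCat.of A)).inv ≫ f.appTop).hom

theorem toK_glob (y : X) (a : A) : toK y (X.presheaf.germ ⊤ y trivial (glob f a)) = φK f a :=
  toK_germ _ _

theorem reg_φK (y : X) (a : A) : Reg y (φK f a) := ⟨_, toK_glob f y a⟩

theorem isUnit_germ_glob {y : X} {a : A} (h : a ∉ (f y : PrimeSpectrum A).asIdeal) :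
    IsUnit (X.presheaf.germ ⊤ y trivial (glob f a)) :=
  (X.mem_basicOpen (glob f a) y trivial).1 ((mem_basicOpen_glob f a y).2 h)

/-- The hypotheses of a modification, in the form used here. -/
structure IsModif : Prop where
  gen : ∀ x : A, x ≠ 0 → φK f x ≠ 0
  frac : ∀ k : X.functionField, ∃ b d : A, d ≠ 0 ∧ k * φK f d = φK f b

/-- Over a principal prime the local ring is the localisation. -/
theorem exists_eq_of_prime [IsDomain A] [IsNoetherianRing A] (hf : IsModif f) {π : A} (hπ : Prime π) {y : X}
    (hy : (f y : PrimeSpectrum A).asIdeal = Ideal.span {π}) (z : X.presheaf.stalk y) :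
    ∃ b d : A, ¬ π ∣ d ∧ toK y z * φK f d = φK f b := by
  obtain ⟨b, d, hd, hk⟩ := hf.frac (toK y z)
  by_cases hb : b = 0
  · refine ⟨0, 1, fun h => hπ.not_unit (isUnit_of_dvd_one h), ?_⟩
    rw [hb, map_zero] at hk
    rw [(mul_eq_zero.1 hk).resolve_right (hf.gen d hd), zero_mul, map_zero]
  obtain ⟨i, b', hb', rfl⟩ := WfDvdMonoid.max_power_factor hb hπ.irreducible
  obtain ⟨j, d', hd', rfl⟩ := WfDvdMonoid.max_power_factor hd hπ.irreducible
  have hπK : φK f π ≠ 0 := hf.gen π hπ.ne_zero
  rw [map_mul, map_mul, map_pow, map_pow] at hk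
  by_cases hij : j ≤ i
  · refine ⟨π ^ (i - j) * b', d', hd', mul_left_cancel₀ (pow_ne_zero j hπK) ?_⟩
    rw [map_mul, map_pow]
    calc φK f π ^ j * (toK y z * φK f d') = φK f π ^ i * φK f b' := by rw [← hk]; ring
      _ = φK f π ^ j * (φK f π ^ (i - j) * φK f b') := by
          rw [← mul_assoc, ← pow_add, Nat.add_sub_cancel' hij]
  · exfalso
    have hij' : i < j := not_le.1 hij
    have hu : IsUnit (X.presheaf.germ ⊤ y trivial (glob f b')) :=
      isUnit_germ_glob f (by rw [hy, Ideal.mem_span_singleton]; exact hb')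
    have h1 : X.presheaf.germ ⊤ y trivial (glob f b') =
        z * X.presheaf.germ ⊤ y trivial (glob f π) ^ (j - i) * X.presheaf.germ ⊤ y trivial (glob f d') := by
      apply toK_injective y
      rw [map_mul, map_mul, map_pow, toK_glob, toK_glob, toK_glob]
      refine mul_left_cancel₀ (pow_ne_zero i hπK) ?_
      rw [← hk, show φK f π ^ i * (toK y z * φK f π ^ (j - i) * φK f d') =
        toK y z * (φK f π ^ i * φK f π ^ (j - i)) * φK f d' by ring, ← pow_add, Nat.add_sub_cancel' hij'.le]
      ring
    rw [h1] at hu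
    have h2 : IsUnit (X.presheaf.germ ⊤ y trivial (glob f π) ^ (j - i)) :=
      isUnit_of_mul_isUnit_right (isUnit_of_mul_isUnit_left hu)
    have h3 := (X.mem_basicOpen (glob f π) y trivial).2 ((isUnit_pow_iff (Nat.sub_ne_zero_of_lt hij')).1 h2)
    rw [mem_basicOpen_glob, hy] at h3
    exact h3 (Ideal.mem_span_singleton_self π)

/-- Two comparable points over a principal prime agree. -/
theorem eq_of_specializes [IsDomain A] [IsNoetherianRing A] (hf : IsModif f) {π : A} (hπ : Prime π) {y y' : X}
    (hy : (f y : PrimeSpectrum A).asIdeal = Ideal.span {π})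
    (hy' : (f y' : PrimeSpectrum A).asIdeal = Ideal.span {π}) (h : y ⤳ y') : y = y' := by
  obtain ⟨p, hp⟩ : y ∈ Set.range (X.fromSpecStalk y') := by
    rw [Scheme.range_fromSpecStalk]
    exact h
  suffices hp' : (p : PrimeSpectrum _).asIdeal = IsLocalRing.maximalIdeal _ by
    rw [← hp, show p = IsLocalRing.closedPoint _ from PrimeSpectrum.ext hp', Scheme.fromSpecStalk_closedPoint]
  refine le_antisymm (IsLocalRing.le_maximalIdeal (p : PrimeSpectrum _).isPrime.ne_top) fun z hz => ?_
  obtain ⟨b, d, hd, hk⟩ := exists_eq_of_prime f hf hπ hy' z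
  have hz' : z * X.presheaf.germ ⊤ y' trivial (glob f d) = X.presheaf.germ ⊤ y' trivial (glob f b) := by
    apply toK_injective y'
    rw [map_mul, toK_glob, toK_glob, hk]
  have hdu : IsUnit (X.presheaf.germ ⊤ y' trivial (glob f d)) :=
    isUnit_germ_glob f (by rw [hy', Ideal.mem_span_singleton]; exact hd)
  have hbm : π ∣ b := by
    rw [← Ideal.mem_span_singleton, ← hy']
    by_contra hb
    have := isUnit_germ_glob f hb
    rw [← hz'] at this
    exact hz (isUnit_of_mul_isUnit_left this)
  obtain ⟨b', rfl⟩ := hbm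
  have hπp : X.presheaf.germ ⊤ y' trivial (glob f π) ∈ (p : PrimeSpectrum _).asIdeal := by
    by_contra hne
    have h1 : y ∈ X.basicOpen (glob f π) := by
      rw [← hp]
      change p ∈ X.fromSpecStalk y' ⁻¹ᵁ X.basicOpen (glob f π)
      rw [Scheme.preimage_basicOpen, show (X.fromSpecStalk y').app ⊤ = (X.fromSpecStalk y').appTop from rfl, Scheme.fromSpecStalk_appTop]
      exact (congrArg (fun O => (p : PrimeSpectrum _) ∈ O)
        (basicOpen_eq_of_affine (R := X.presheaf.stalk y') (X.presheaf.germ ⊤ y' trivial (glob f π)))).mpr hne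
    rw [mem_basicOpen_glob, hy] at h1
    exact h1 (Ideal.mem_span_singleton_self π)
  refine ((p : PrimeSpectrum _).isPrime.mem_or_mem ?_).resolve_right fun h2 =>
    (p : PrimeSpectrum _).isPrime.ne_top (Ideal.eq_top_of_isUnit_mem _ h2 hdu)
  rw [hz']
  have : X.presheaf.germ ⊤ y' trivial (glob f (π * b')) =
      X.presheaf.germ ⊤ y' trivial (glob f π) * X.presheaf.germ ⊤ y' trivial (glob f b') := by
    simp [glob, map_mul]
  rw [this]
  exact Ideal.mul_mem_right _ _ hπp

/-- The fibre over a principal prime has at most one point. -/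
theorem subsingleton_fibre [IsDomain A] [IsNoetherianRing A] [IsProper f] (hf : IsModif f)
    (hconn : ∀ s, ConnectedSpace ↥(f.fiber s)) {π : A} (hπ : Prime π) (s : Spec (CommRingCat.of A))
    (hs : (s : PrimeSpectrum A).asIdeal = Ideal.span {π}) : Subsingleton ↥(f.fiber s) := by
  haveI : IsLocallyNoetherian (Spec (CommRingCat.of A)) := inferInstance
  haveI : IsLocallyNoetherian X := LocallyOfFiniteType.isLocallyNoetherian f
  haveI : LocallyOfFiniteType (f.fiberToSpecResidueField s) := inferInstanceAs (LocallyOfFiniteType (pullback.snd f _))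
  haveI : IsLocallyNoetherian (f.fiber s) := LocallyOfFiniteType.isLocallyNoetherian (f.fiberToSpecResidueField s)
  haveI : CompactSpace (f.fiber s) := QuasiCompact.compactSpace_of_compactSpace (f.fiberToSpecResidueField s)
  haveI : IsNoetherian (f.fiber s) := {}
  have hmem : ∀ p : f.fiber s, f (f.fiberι s p) = s := fun p => (f.range_fiberι s).le (Set.mem_range_self p)
  have ht1 : ∀ p q : f.fiber s, p ⤳ q → p = q := fun p q h =>
    (f.fiberι s).isEmbedding.injective
      (eq_of_specializes f hf hπ (by rw [hmem]; exact hs) (by rw [hmem]; exact hs) (h.map (f.fiberι s).continuous))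
  have hfin : Finite (f.fiber s) := by
    haveI : Finite (irreducibleComponents (f.fiber s)) :=
      TopologicalSpace.NoetherianSpace.finite_irreducibleComponents
    refine Finite.of_injective (fun p => (⟨irreducibleComponent p, irreducibleComponent_mem_irreducibleComponents p⟩ :
      irreducibleComponents (f.fiber s))) fun p q hpq => ?_
    have h1 := (isIrreducible_irreducibleComponent (x := p)).isGenericPoint_genericPoint
      isClosed_irreducibleComponent
    have hp := ht1 _ _ (h1.specializes mem_irreducibleComponent)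
    have hq' : q ∈ irreducibleComponent p := by
      have : irreducibleComponent p = irreducibleComponent q := congrArg Subtype.val hpq
      rw [this]; exact mem_irreducibleComponent
    exact hp.symm.trans (ht1 _ _ (h1.specializes hq'))
  haveI : T1Space (f.fiber s) := ⟨fun p => isClosed_of_closure_subset fun q hq => by
    rw [Set.mem_singleton_iff]
    exact (ht1 p q (specializes_iff_mem_closure.2 hq)).symm⟩
  haveI := hconn s
  haveI : PreconnectedSpace (f.fiber s) := inferInstance
  exact PreconnectedSpace.trivial_of_discrete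

/-- Principal parts of bounded order come from the base field. -/
theorem exists_global_part [IsRegularLocalRing A] [IsDomain A] [IsProper f] (hXn : Pi1.IsNormalScheme X)
    (hf : IsModif f) (hconn : ∀ s, ConnectedSpace ↥(f.fiber s)) (hdim : ringKrullDim A = 2)
    {a : A} (ha : Prime a) (hdvr : ∀ k : A, ∀ d : A, ¬ a ∣ d → (∃ P : Polynomial A, P.Monic ∧
      a ∣ ∑ i ∈ Finset.range (P.natDegree + 1), P.coeff i * k ^ i * d ^ (P.natDegree - i)) → ∃ c, a ∣ k - c * d)
    (U : X → X.Opens) (hU : ∀ x, IsAffineOpen (U x)) (hxU : ∀ x, x ∈ U x) (n : ℕ) :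
    ∀ r : X → X.functionField, (∀ x x' y, y ∈ U x → y ∈ U x' → Reg y (r x - r x')) →
      (∀ x y, y ∈ U x → Reg y (φK f a ^ n * r x)) →
      ∃ β : X.functionField, ∀ x, Reg x (r x - β) := by
  classical
  haveI : IsLocallyNoetherian (Spec (CommRingCat.of A)) := inferInstance
  haveI : IsLocallyNoetherian X := LocallyOfFiniteType.isLocallyNoetherian f
  haveI : CompactSpace X := QuasiCompact.compactSpace_of_compactSpace f
  haveI : ∀ x, Nonempty (U x) := fun x => ⟨⟨x, hxU x⟩⟩
  induction n with
  | zero => exact fun r _ h => ⟨0, fun x => by simpa using h x x (hxU x)⟩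
  | succ n ih =>
  intro r h1 hn
  have haK : φK f a ≠ 0 := hf.gen a ha.ne_zero
  have ha_m : a ∈ IsLocalRing.maximalIdeal A := ha.not_unit
  let P : PrimeSpectrum A := ⟨Ideal.span {a}, (Ideal.span_singleton_prime ha.ne_zero).2 ha⟩
  haveI hPp : (Ideal.span {a}).IsPrime := P.isPrime
  have hPm : P.asIdeal ≠ IsLocalRing.maximalIdeal A := fun h => by
    have h1 := IsLocalRing.maximalIdeal_height_eq_ringKrullDim (R := A)
    rw [hdim, ← h] at h1
    have hp : P.asIdeal ∈ (Ideal.span {a}).minimalPrimes := by
      rw [Ideal.minimalPrimes_eq_subsingleton_self]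
      exact rfl
    have h3 : (P.asIdeal.height : WithBot ℕ∞) ≤ 1 := WithBot.coe_le_coe.2
      (Ideal.height_le_one_of_isPrincipal_of_mem_minimalPrimes (Ideal.span {a}) P.asIdeal hp)
    rw [h1] at h3
    exact absurd h3 (by decide)
  obtain ⟨p₀⟩ := (hconn P).toNonempty
  set η := f.fiberι P p₀ with hη
  have hfη : f η = P := (f.range_fiberι P).le (Set.mem_range_self p₀)
  have huniq : ∀ y, f y = P → y = η := fun y hy => by
    obtain ⟨q, rfl⟩ := (f.range_fiberι P).ge hy
    haveI := subsingleton_fibre f hf hconn ha P rfl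
    rw [hη, Subsingleton.elim q p₀]
  let s : X → X.functionField := fun x => φK f a ^ (n + 1) * r x
  choose w hw using fun x => exists_section hXn (hU x) (s x) (fun y hy _ => hn x y hy)
  -- integrality of the residue at `η`
  let I : X.IdealSheafData := Scheme.IdealSheafData.vanishingIdeal ⟨closure {η}, isClosed_closure⟩
  haveI : IsReduced I.subscheme := RedSub.isReduced_vanishingIdeal _
  have hsupp : (I.support : Set X) = closure {η} := by simp [I]
  have hαη : ∀ z : I.subscheme, I.subschemeι z ∉ X.basicOpen (glob f a) := fun z hz => by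
    have h1 : η ⤳ I.subschemeι z :=
      specializes_iff_mem_closure.2 (hsupp ▸ I.range_subschemeι ▸ Set.mem_range_self z)
    have h2 := (h1.mem_open (X.basicOpen _).2 hz)
    have h3 := (mem_basicOpen_glob f a η).1 h2
    rw [hfη] at h3
    exact h3 (Ideal.mem_span_singleton_self a)
  let V : X → I.subscheme.Opens := fun x => I.subschemeι ⁻¹ᵁ U x
  obtain ⟨h, hh, -⟩ := TopCat.Sheaf.existsUnique_gluing' I.subscheme.sheaf V ⊤ (fun x => homOfLE le_top)
    (fun z _ => Opens.mem_iSup.mpr ⟨I.subschemeι z, hxU _⟩) (fun x => I.subschemeι.app _ (w x)) (fun x x' => by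
      refine sub_eq_zero.1 ((basicOpen_eq_bot_iff _).1 (Opens.ext (Set.eq_empty_iff_forall_notMem.2 fun z hz => ?_)))
      have hzV := I.subscheme.basicOpen_le _ hz
      have hz' := (I.subscheme.mem_basicOpen _ z hzV).1 hz
      rw [map_sub] at hz'
      replace hz' : IsUnit (I.subscheme.presheaf.germ (V x) z hzV.1 (I.subschemeι.app _ (w x)) -
          I.subscheme.presheaf.germ (V x') z hzV.2 (I.subschemeι.app _ (w x'))) := by
        have e1 := I.subscheme.presheaf.germ_res_apply (Opens.infLELeft (V x) (V x')) z hzV (I.subschemeι.app _ (w x))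
        have e2 := I.subscheme.presheaf.germ_res_apply (Opens.infLERight (V x) (V x')) z hzV (I.subschemeι.app _ (w x'))
        rw [← e1, ← e2]
        exact hz'
      rw [← Scheme.Hom.germ_stalkMap_apply _ _ _ hzV.1, ← Scheme.Hom.germ_stalkMap_apply _ _ _ hzV.2,
        ← map_sub] at hz'
      set y := I.subschemeι z
      replace hz' := (isUnit_map_iff (I.subschemeι.stalkMap z).hom _).1 hz'
      obtain ⟨c, hc⟩ := h1 x x' y hzV.1 hzV.2
      have h2 : X.presheaf.germ _ y hzV.1 (w x) - X.presheaf.germ _ y hzV.2 (w x') =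
          X.presheaf.germ ⊤ y trivial (glob f a) * (X.presheaf.germ ⊤ y trivial (glob f a) ^ n * c) := by
        apply toK_injective y
        rw [map_sub, map_mul, map_mul, map_pow, toK_germ, toK_germ, toK_glob, hc, hw, hw]
        simp only [s]
        ring
      rw [h2] at hz'
      exact hαη z ((X.mem_basicOpen (glob f a) y trivial).2 (isUnit_of_mul_isUnit_left hz')))
  let g : I.subscheme ⟶ Spec (CommRingCat.of A) := I.subschemeι ≫ f
  let φ : A →+* Γ(I.subscheme, ⊤) := ((Scheme.ΓSpecIso (CommRingCat.of A)).inv ≫ g.appTop).hom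
  have hφ : φ.IsIntegral :=
    RingHom.isIntegral_respectsIso.2 g.appTop.hom
      (Scheme.ΓSpecIso (CommRingCat.of A)).symm.commRingCatIsoToRingEquiv
      (isIntegral_appTop_of_universallyClosed g)
  obtain ⟨Q, hQ, hQh⟩ := hφ h
  obtain ⟨z₀, hz₀⟩ : η ∈ Set.range I.subschemeι := by
    rw [I.range_subschemeι, hsupp]; exact subset_closure rfl
  obtain ⟨k, d, hd, hkd⟩ := exists_eq_of_prime f hf ha (y := η) (by rw [hfη]) (X.presheaf.germ _ η (hxU η) (w η))
  have hkd' : X.presheaf.germ _ η (hxU η) (w η) * X.presheaf.germ ⊤ η trivial (glob f d) =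
      X.presheaf.germ ⊤ η trivial (glob f k) := by
    apply toK_injective η
    rw [map_mul, toK_glob, toK_glob, hkd]
  obtain ⟨c, hc⟩ : ∃ c, a ∣ k - c * d := by
    refine hdvr k d hd ⟨Q, hQ, ?_⟩
    by_contra hne
    let ev : Γ(I.subscheme, ⊤) →+* I.subscheme.residueField z₀ := (I.subscheme.evaluation ⊤ z₀ trivial).hom
    let ψ : A →+* I.subscheme.residueField z₀ := ev.comp φ
    have hψ : ∀ b : A, ψ b = 0 ↔ b ∈ P.asIdeal := fun b => by
      refine (I.subscheme.evaluation_eq_zero_iff_notMem_basicOpen (U := ⊤) z₀ trivial _).trans ?_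
      change z₀ ∉ I.subscheme.basicOpen (glob g b) ↔ _
      rw [mem_basicOpen_glob, not_not]
      change b ∈ ((f (I.subschemeι z₀)) : PrimeSpectrum A).asIdeal ↔ _
      rw [hz₀, hfη]
    have hkey : ev h * ψ d = ψ k := by
      have hz₀V : z₀ ∈ V η := show I.subschemeι z₀ ∈ U η from hz₀ ▸ hxU η
      have e1 : I.subscheme.presheaf.germ ⊤ z₀ trivial h =
          I.subschemeι.stalkMap z₀ (X.presheaf.germ _ _ hz₀V (w η)) := by
        rw [Scheme.Hom.germ_stalkMap_apply]
        refine Eq.trans ?_ (congrArg (I.subscheme.presheaf.germ _ z₀ hz₀V) (hh η))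
        exact (I.subscheme.presheaf.germ_res_apply (homOfLE le_top) z₀ hz₀V h).symm
      have e2 : ∀ b : A, I.subscheme.presheaf.germ ⊤ z₀ trivial (φ b) =
          I.subschemeι.stalkMap z₀ (X.presheaf.germ ⊤ _ trivial (glob f b)) := fun b => by
        rw [Scheme.Hom.germ_stalkMap_apply]
        simp [φ, g, glob]
      change I.subscheme.residue z₀ (I.subscheme.presheaf.germ ⊤ z₀ trivial h) *
          I.subscheme.residue z₀ (I.subscheme.presheaf.germ ⊤ z₀ trivial (φ d)) =
        I.subscheme.residue z₀ (I.subscheme.presheaf.germ ⊤ z₀ trivial (φ k))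
      rw [e1, e2, e2, ← map_mul, ← map_mul]
      congr 2
      exact (show ∀ (y : X) (hy : y ∈ U η), y = η → X.presheaf.germ _ y hy (w η) * X.presheaf.germ ⊤ y trivial (glob f d) =
        X.presheaf.germ ⊤ y trivial (glob f k) by rintro _ _ rfl; exact hkd') _ hz₀V hz₀
    refine hne (Ideal.mem_span_singleton.1 ((hψ _).1 ?_))
    rw [map_sum]
    have h0 : Q.eval₂ ψ (ev h) = 0 := by rw [← Polynomial.hom_eval₂, hQh, map_zero]
    rw [Polynomial.eval₂_eq_sum_range] at h0
    calc ∑ i ∈ Finset.range (Q.natDegree + 1), ψ (Q.coeff i * k ^ i * d ^ (Q.natDegree - i))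
        = (∑ i ∈ Finset.range (Q.natDegree + 1), ψ (Q.coeff i) * ev h ^ i) * ψ d ^ Q.natDegree := by
          rw [Finset.sum_mul]
          refine Finset.sum_congr rfl fun i hi => ?_
          have hle : i ≤ Q.natDegree := by rw [Finset.mem_range] at hi; omega
          rw [map_mul, map_mul, map_pow, map_pow, ← hkey, mul_pow]
          calc ψ (Q.coeff i) * (ev h ^ i * ψ d ^ i) * ψ d ^ (Q.natDegree - i)
              = ψ (Q.coeff i) * ev h ^ i * (ψ d ^ i * ψ d ^ (Q.natDegree - i)) := by ring
            _ = _ := by rw [← pow_add, Nat.add_sub_cancel' hle]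
      _ = 0 := by rw [h0, zero_mul]
  obtain ⟨c', hc'⟩ := hc
  let r₁ : X → X.functionField := fun x => φK f a ^ n * r x - φK f c / φK f a
  have key : ∀ x y, Reg y (r₁ x) → Reg y (φK f a ^ n * (r x - φK f c / φK f a ^ (n + 1))) := by
    intro x y h
    convert h using 1
    simp only [r₁, mul_sub]
    rw [pow_succ]
    field_simp
  have hreg : ∀ x, Reg x (r₁ x) := by
    refine reg_of_principalParts f hXn ?_ (glob f a) ?_ ?_ ?_ U hU hxU r₁ ?_ ?_
    · haveI := hconn (IsLocalRing.closedPoint A)
      have h1 := isPreconnected_range (f.fiberι (IsLocalRing.closedPoint A)).continuous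
      rwa [Scheme.Hom.range_fiberι] at h1
    · rw [mem_basicOpen_glob]
      intro hmem
      refine haK ?_
      by_contra h0
      have hb : genericPoint X ∈ X.basicOpen (glob f a) :=
        (X.mem_basicOpen (glob f a) (genericPoint X) trivial).2 (isUnit_iff_ne_zero.2 (show (φK f a : X.functionField) ≠ 0 from h0))
      exact ((mem_basicOpen_glob f a _).1 hb) hmem
    · intro x hx hb
      rw [mem_basicOpen_glob, hx] at hb
      exact hb ha_m
    · intro x hx T hT hTF hFT
      have hspec : f η ⤳ (IsLocalRing.closedPoint A : PrimeSpectrum A) := by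
        rw [hfη]
        exact (PrimeSpectrum.le_iff_specializes _ _).1 (IsLocalRing.le_maximalIdeal P.isPrime.ne_top)
      obtain ⟨x', hxx', hx'⟩ := f.isClosedMap.specializingMap hspec
      refine ⟨η, x', fun h => hPm ?_, ?_, hFT hx', hxx'⟩
      · rw [hfη] at h; exact congrArg PrimeSpectrum.asIdeal h
      · rw [mem_basicOpen_glob, hfη, not_not]; exact Ideal.mem_span_singleton_self a
    · intro x x' y hy hy'
      obtain ⟨v, hv⟩ := h1 x x' y hy hy'
      refine ⟨X.presheaf.germ ⊤ y trivial (glob f a) ^ n * v, ?_⟩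
      rw [map_mul, map_pow, toK_glob, hv]
      simp only [r₁]
      ring
    · intro x y hy hyF
      by_cases hay : a ∈ (f y : PrimeSpectrum A).asIdeal
      · have hfy : f y = P := by
          by_contra hne
          have hlt : P.asIdeal < (f y : PrimeSpectrum A).asIdeal :=
            lt_of_le_of_ne ((Ideal.span_singleton_le_iff_mem _).2 hay) fun h => hne (PrimeSpectrum.ext h.symm)
          have hlt' : (f y : PrimeSpectrum A).asIdeal < IsLocalRing.maximalIdeal A :=
            lt_of_le_of_ne (IsLocalRing.le_maximalIdeal (f y : PrimeSpectrum A).isPrime.ne_top)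
              fun h => hyF (PrimeSpectrum.ext h)
          haveI := P.isPrime
          haveI := (f y : PrimeSpectrum A).isPrime
          have e1 := Ideal.height_strict_mono_of_isPrime_of_isPrime hlt
          have e2 := Ideal.height_strict_mono_of_isPrime_of_isPrime hlt'
          have e3 : (IsLocalRing.maximalIdeal A).height = 2 := by
            have := IsLocalRing.maximalIdeal_height_eq_ringKrullDim (R := A)
            rw [hdim] at this
            exact WithBot.coe_injective this
          have e0 : (1 : ℕ∞) ≤ P.asIdeal.height := by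
            refine Order.one_le_iff_pos.2 (pos_iff_ne_zero.2 fun h0 => ?_)
            rw [Ideal.height_eq_zero_iff_eq_bot, Ideal.span_singleton_eq_bot] at h0
            exact ha.ne_zero h0
          rw [e3] at e2
          have h2 : (f y : PrimeSpectrum A).asIdeal.height ≤ 1 := Order.le_of_lt_succ (by
            rw [show Order.succ (1 : ℕ∞) = 2 from rfl]; exact e2)
          exact absurd (e1.trans_le h2) (not_lt.2 e0)
        obtain rfl := huniq y hfy
        -- at the generic point of the strict transform
        have hsx : Reg η (s x - φK f c) := by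
          simpa [Reg] using (toK η).range.sub_mem (hn x η hy) (reg_φK f η c)
        obtain ⟨t, ht⟩ := hsx
        suffices hdv : ∃ t', t = X.presheaf.germ ⊤ η trivial (glob f a) * t' by
          obtain ⟨t', rfl⟩ := hdv
          refine ⟨t', ?_⟩
          rw [map_mul, toK_glob] at ht
          apply mul_left_cancel₀ haK
          rw [ht]
          simp only [s, r₁, mul_sub, pow_succ]
          field_simp
        obtain ⟨e, he⟩ := h1 x η η hy (hxU η)
        have hdu : IsUnit (X.presheaf.germ ⊤ η trivial (glob f d)) :=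
          isUnit_germ_glob f (by rw [hfη]; exact fun h => hd (Ideal.mem_span_singleton.1 h))
        refine ⟨X.presheaf.germ ⊤ η trivial (glob f a) ^ n * e +
          X.presheaf.germ ⊤ η trivial (glob f c') * ↑hdu.unit⁻¹, toK_injective η ?_⟩
        have hφd : φK f d ≠ 0 := hf.gen d fun h => hd (h ▸ dvd_zero a)
        have hinv : toK η (↑hdu.unit⁻¹ : X.presheaf.stalk η) = (φK f d)⁻¹ := by
          rw [map_units_inv]
          congr 1
          exact toK_glob f η d
        have hcK : φK f k - φK f c * φK f d = φK f a * φK f c' := by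
          rw [← map_mul, ← map_mul, ← map_sub, hc']
        have hwη : toK η (X.presheaf.germ _ η (hxU η) (w η)) = s η := by rw [toK_germ, hw]
        rw [hwη] at hkd
        rw [ht, map_mul, map_add, map_mul, map_mul, map_pow, toK_glob, toK_glob, he, hinv]
        simp only [s] at hkd ⊢
        field_simp
        linear_combination hkd + hcK
      · have hu := isUnit_germ_glob f hay
        obtain ⟨t, ht⟩ := hn x y hy
        refine ⟨(t - X.presheaf.germ ⊤ y trivial (glob f c)) * ↑hu.unit⁻¹, ?_⟩
        have hinv : toK y (↑hu.unit⁻¹ : X.presheaf.stalk y) = (φK f a)⁻¹ := by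
          rw [map_units_inv]
          congr 1
          exact toK_glob f y a
        rw [map_mul, map_sub, ht, toK_glob, hinv]
        simp only [r₁, pow_succ]
        field_simp
  obtain ⟨β, hβ⟩ := ih (fun x => r x - φK f c / φK f a ^ (n + 1))
    (fun x x' y hy hy' => by simpa [sub_sub_sub_cancel_right] using h1 x x' y hy hy')
    (fun x y hy => key x y (by
      obtain ⟨v, hv⟩ := h1 x y y hy (hxU y)
      have h2 : Reg y (φK f a ^ n * (r x - r y)) :=
        ⟨X.presheaf.germ ⊤ y trivial (glob f a) ^ n * v, by rw [map_mul, map_pow, toK_glob, hv]⟩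
      have h3 := (toK y).range.add_mem h2 (hreg y)
      have e : φK f a ^ n * (r x - r y) + r₁ y = r₁ x := by simp only [r₁]; ring
      rw [e] at h3
      exact h3))
  exact ⟨β + φK f c / φK f a ^ (n + 1), fun x => by
    have := hβ x
    rw [show r x - (β + φK f c / φK f a ^ (n + 1)) = r x - φK f c / φK f a ^ (n + 1) - β by ring]
    exact this⟩

end Groth.Agent.ConormalTriv
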